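import Mathlib

/-!
# Numerical inequalities for D3 of S4766 (helper10)

* `Bd n c` : there are at most `c` multisets of parts `≥ 2` with sum `≤ n` (so `S_n` has at most `c` classes);
* `num_prim`, `num_imprim`, `num_classes`.
-/

set_option autoImplicit false

namespace Cfsg.Agent.H10.AN

open Nat

/-- at most `c` multisets with parts `≥ 2` and sum `≤ n` -/
def Bd (n c : ℕ) : Prop :=
  ∃ F : Finset (Multiset ℕ), F.card ≤ c ∧ ∀ s : Multiset ℕ, (∀ x ∈ s, 2 ≤ x) → s.sum ≤ n → s ∈ F

theorem Bd.mono {n c d : ℕ} (h : Bd n c) (hcd : c ≤ d) : Bd n d := by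
  obtain ⟨F, hF, h1⟩ := h
  exact ⟨F, hF.trans hcd, h1⟩

theorem Bd.add {n c d : ℕ} (h0 : Bd n c) (h1 : Bd (n + 1) d) : Bd (n + 2) (c + d) := by
  classical
  obtain ⟨F0, hF0, hm0⟩ := h0
  obtain ⟨F1, hF1, hm1⟩ := h1
  refine ⟨F1 ∪ F0.image (fun t => (n + 2 - t.sum) ::ₘ t), ?_, ?_⟩
  · calc (F1 ∪ F0.image (fun t => (n + 2 - t.sum) ::ₘ t)).card
        ≤ F1.card + (F0.image (fun t => (n + 2 - t.sum) ::ₘ t)).card := Finset.card_union_le _ _
      _ ≤ d + c := Nat.add_le_add hF1 (Finset.card_image_le.trans hF0)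
      _ = c + d := Nat.add_comm _ _
  · intro s hs hsum
    rw [Finset.mem_union]
    by_cases h : s.sum ≤ n + 1
    · exact Or.inl (hm1 s hs h)
    · right
      have h2 : s.sum = n + 2 := by omega
      have hne : s ≠ 0 := by
        rintro rfl
        simp at h2
      obtain ⟨a, ha⟩ := Multiset.exists_mem_of_ne_zero hne
      obtain ⟨t, rfl⟩ := Multiset.exists_cons_of_mem ha
      rw [Finset.mem_image]
      rw [Multiset.sum_cons] at h2
      have h3 := hs a (Multiset.mem_cons_self a t)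
      refine ⟨t, hm0 t (fun x hx => hs x (Multiset.mem_cons_of_mem hx)) (by omega), ?_⟩
      congr 1
      omega

/-- the symmetric group has at most `c` classes -/
theorem Bd.classes {α : Type*} [Fintype α] [DecidableEq α] {c : ℕ} (h : Bd (Fintype.card α) c) :
    Nat.card (ConjClasses (Equiv.Perm α)) ≤ c := by
  obtain ⟨F, hF, hm⟩ := h
  refine le_trans ?_ hF
  let f : ConjClasses (Equiv.Perm α) → F := fun c =>
    ⟨(Quotient.out c : Equiv.Perm α).cycleType, hm _
      (fun x hx => Equiv.Perm.two_le_of_mem_cycleType hx) (Equiv.Perm.sum_cycleType_le _)⟩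
  have hf : Function.Injective f := by
    intro c d h
    have h1 : (Quotient.out c : Equiv.Perm α).cycleType = (Quotient.out d : Equiv.Perm α).cycleType :=
      congrArg Subtype.val h
    rw [← Equiv.Perm.isConj_iff_cycleType_eq] at h1
    rw [← Quotient.out_eq c, ← Quotient.out_eq d]
    exact ConjClasses.mk_eq_mk_iff_isConj.2 h1
  have := Nat.card_le_card_of_injective f hf
  simpa using this

/-- the number of multisets of parts in `[2, k]` with sum `≤ n` (with fuel) -/
def pc : ℕ → ℕ → ℕ → ℕ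
  | 0, _, _ => 1
  | f + 1, n, k => if k < 2 then 1 else pc f n (k - 1) + (if k ≤ n then pc f (n - k) k else 0)

theorem pc_spec (f : ℕ) : ∀ n k : ℕ, n + k ≤ f → ∃ F : Finset (Multiset ℕ), F.card ≤ pc f n k ∧
    ∀ s : Multiset ℕ, (∀ x ∈ s, 2 ≤ x ∧ x ≤ k) → s.sum ≤ n → s ∈ F := by
  induction f with
  | zero =>
    intro n k hnk
    refine ⟨{0}, by simp [pc], ?_⟩
    intro s hs hsum
    rw [Finset.mem_singleton]
    refine Multiset.eq_zero_of_forall_notMem ?_
    intro a ha
    have h2 := hs a ha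
    omega
  | succ f ih =>
    classical
    intro n k hnk
    by_cases hk : k < 2
    · refine ⟨{0}, by simp [pc, hk], ?_⟩
      intro s hs hsum
      rw [Finset.mem_singleton]
      refine Multiset.eq_zero_of_forall_notMem ?_
      intro a ha
      have h2 := hs a ha
      omega
    · obtain ⟨F1, hF1, hm1⟩ := ih n (k - 1) (by omega)
      by_cases hkn : k ≤ n
      · obtain ⟨F2, hF2, hm2⟩ := ih (n - k) k (by omega)
        refine ⟨F1 ∪ F2.image (fun t => k ::ₘ t), ?_, ?_⟩
        · rw [pc, if_neg hk, if_pos hkn]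
          exact (Finset.card_union_le _ _).trans (Nat.add_le_add hF1 (Finset.card_image_le.trans hF2))
        · intro s hs hsum
          rw [Finset.mem_union]
          by_cases hks : k ∈ s
          · right
            obtain ⟨t, rfl⟩ := Multiset.exists_cons_of_mem hks
            rw [Multiset.sum_cons] at hsum
            exact Finset.mem_image.2 ⟨t, hm2 t (fun x hx => hs x (Multiset.mem_cons_of_mem hx)) (by omega), rfl⟩
          · left
            refine hm1 s (fun x hx => ?_) hsum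
            have h2 := hs x hx
            have h3 : x ≠ k := fun h => hks (h ▸ hx)
            omega
      · refine ⟨F1, ?_, ?_⟩
        · rw [pc, if_neg hk, if_neg hkn]; exact hF1
        · intro s hs hsum
          refine hm1 s (fun x hx => ?_) hsum
          have h2 := hs x hx
          have h3 : x ≤ s.sum := Multiset.single_le_sum (fun x _ => Nat.zero_le x) x hx
          omega

theorem bd_pc (n : ℕ) : Bd n (pc (n + n) n n) := by
  obtain ⟨F, hF, h⟩ := pc_spec (n + n) n n le_rfl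
  refine ⟨F, hF, fun s hs hsum => h s (fun x hx => ⟨hs x hx, ?_⟩) hsum⟩
  exact (Multiset.single_le_sum (fun x _ => Nat.zero_le x) x hx).trans hsum

/-- the partition numbers `≤ 20` -/
def tb : ℕ → ℕ := fun k => pc (k + k) k k

theorem bd_tb (k : ℕ) : Bd k (tb k) := bd_pc k

theorem bd_growth {k0 N D c0 c1 : ℕ} (h0 : Bd k0 c0) (h1 : Bd (k0 + 1) c1) (hc0 : c0 * 8 ^ k0 * D ≤ N * 13 ^ k0)
    (hc1 : c1 * 8 ^ (k0 + 1) * D ≤ N * 13 ^ (k0 + 1)) (j : ℕ) :
    ∃ c, Bd (k0 + j) c ∧ c * 8 ^ (k0 + j) * D ≤ N * 13 ^ (k0 + j) := by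
  induction j using Nat.twoStepInduction with
  | zero => exact ⟨c0, h0, hc0⟩
  | one => exact ⟨c1, h1, hc1⟩
  | more j ih0 ih1 =>
    obtain ⟨a, ha, ha'⟩ := ih0
    obtain ⟨b, hb, hb'⟩ := ih1
    refine ⟨a + b, ha.add hb, ?_⟩
    have e1 : (a + b) * 8 ^ (k0 + (j + 2)) * D = 64 * (a * 8 ^ (k0 + j) * D) + 8 * (b * 8 ^ (k0 + (j + 1)) * D) := by
      ring
    have e2 : N * 13 ^ (k0 + (j + 2)) = 169 * (N * 13 ^ (k0 + j)) := by ring
    have e3 : N * 13 ^ (k0 + (j + 1)) = 13 * (N * 13 ^ (k0 + j)) := by ring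
    rw [e1, e2]
    rw [e3] at hb'
    omega

theorem bd_seven (k : ℕ) (hk : 7 ≤ k) : ∃ c, Bd k c ∧ c * 8 ^ k * 1000 ≤ 502 * 13 ^ k := by
  have h0 : Bd 7 15 := (bd_tb 7).mono (by decide +kernel)
  have h1 : Bd 8 22 := (bd_tb 8).mono (by decide +kernel)
  have h := bd_growth (N := 502) (D := 1000) h0 h1 (by norm_num) (by norm_num) (k - 7)
  rwa [show 7 + (k - 7) = k by omega] at h

theorem bd_fourteen (k : ℕ) (hk : 14 ≤ k) : ∃ c, Bd k c ∧ c * 8 ^ k * 1000 ≤ 151 * 13 ^ k := by
  have h0 : Bd 14 135 := (bd_tb 14).mono (by decide +kernel)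
  have h1 : Bd 15 176 := (bd_tb 15).mono (by decide +kernel)
  have h := bd_growth (N := 151) (D := 1000) h0 h1 (by norm_num) (by norm_num) (k - 14)
  rwa [show 14 + (k - 14) = k by omega] at h

end Cfsg.Agent.H10.AN
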