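import Mathlib
import Cfsg.Agent.H10.AN.Num

/-!
# Numerical inequalities for D3 of S4766, second part (helper10)
-/

set_option autoImplicit false

namespace Cfsg.Agent.H10.AN

open Nat

/-! ### binomial coefficients -/

theorem ratio_aux {v u : ℕ} (h : 28 ≤ v + u) : 28561 * ((v + 1) * (u + 3) * (u + 2) * (u + 1)) ≤
    4096 * ((v + u + 4) * (v + u + 3) * (v + u + 2) * (v + u + 1)) := by
  have h' : (28 : ℤ) ≤ v + u := by exact_mod_cast h
  have key : (28561 : ℤ) * ((v + 1) * (u + 3) * (u + 2) * (u + 1)) ≤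
      4096 * ((v + u + 4) * (v + u + 3) * (v + u + 2) * (v + u + 1)) := by
    obtain ⟨a, ha⟩ : ∃ a : ℤ, a = v + 1 := ⟨_, rfl⟩
    obtain ⟨x, hx⟩ : ∃ x : ℤ, x = u + 2 := ⟨_, rfl⟩
    have ha0 : 1 ≤ a := by omega
    have hx0 : 2 ≤ x := by omega
    have e1 : ((v : ℤ) + 1) * (u + 3) * (u + 2) * (u + 1) = a * (x ^ 3 - x) := by rw [ha, hx]; ring
    obtain ⟨S, hS⟩ : ∃ S : ℤ, S = a + x := ⟨_, rfl⟩
    have e2 : ((v : ℤ) + u + 4) * (v + u + 3) * (v + u + 2) * (v + u + 1) = S * (S ^ 3 - 2 * S ^ 2 - S + 2) := by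
      rw [hS, ha, hx]; ring
    have hS31 : 31 ≤ S := by omega
    rw [e1, e2]
    have h1 : 0 ≤ (x - 3 * a) ^ 2 * (27 * x ^ 2 + 14 * (a * x) + 3 * a ^ 2) := by positivity
    have h2 : 256 * (a * x ^ 3) ≤ 27 * S ^ 4 := by
      rw [hS]
      nlinarith [h1]
    have h3 : 0 ≤ a * x := by positivity
    have h4 : 1048576 * (2 * S ^ 2 + S - 2) ≤ 277429 * S ^ 3 := by
      nlinarith [mul_nonneg (sq_nonneg S) (sub_nonneg.2 hS31), mul_nonneg (by omega : (0 : ℤ) ≤ S) (sub_nonneg.2 hS31)]
    have h5 : 28561 * (27 * S ^ 4) ≤ 256 * (4096 * (S * (S ^ 3 - 2 * S ^ 2 - S + 2))) := by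
      nlinarith [mul_nonneg (by omega : (0 : ℤ) ≤ S) (sub_nonneg.2 h4)]
    nlinarith [h2, h3, h5]
  exact_mod_cast key

theorem choose_low (n : ℕ) : 28 ≤ n → ∀ w, n ≤ 4 * w → 2 * w ≤ n → 61 * 13 ^ n < 100 * (n.choose w * 8 ^ n) := by
  induction n using Nat.strong_induction_on with
  | _ n ih =>
    intro hn w h4 h2
    by_cases hb : n < 32
    · -- base
      have hw : w < 16 := by omega
      have key : ∀ n' ∈ Finset.Ico 28 32, ∀ w' ∈ Finset.range 16, n' ≤ 4 * w' → 2 * w' ≤ n' →
          61 * 13 ^ n' < 100 * (n'.choose w' * 8 ^ n') := by decide +kernel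
      exact key n (Finset.mem_Ico.2 ⟨hn, hb⟩) w (Finset.mem_range.2 hw) h4 h2
    · rw [not_lt] at hb
      by_cases hc : 2 * w + 2 ≤ n
      · -- from (n - 4, w - 1)
        obtain ⟨m, rfl⟩ : ∃ m, n = m + 4 := ⟨n - 4, by omega⟩
        obtain ⟨v, rfl⟩ : ∃ v, w = v + 1 := ⟨w - 1, by omega⟩
        have h := ih m (by omega) (by omega) v (by omega) (by omega)
        -- C(m+4, v+1) (v+1) (m+3-v)(m+2-v)(m+1-v) = C(m,v) (m+4)(m+3)(m+2)(m+1)
        have e1 : (m + 4).choose (v + 1) * (v + 1) = (m + 4) * (m + 3).choose v := by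
          have := Nat.add_one_mul_choose_eq (m + 3) v
          rw [show m + 3 + 1 = m + 4 by ring] at this
          linarith
        have e2 : (m + 3).choose v * (m + 3 - v) = (m + 3) * (m + 2).choose v := by
          have := Nat.choose_mul_succ_eq (m + 2) v
          rw [show m + 2 + 1 = m + 3 by ring] at this
          linarith
        have e3 : (m + 2).choose v * (m + 2 - v) = (m + 2) * (m + 1).choose v := by
          have := Nat.choose_mul_succ_eq (m + 1) v
          rw [show m + 1 + 1 = m + 2 by ring] at this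
          linarith
        have e4 : (m + 1).choose v * (m + 1 - v) = (m + 1) * m.choose v := by
          have := Nat.choose_mul_succ_eq m v
          linarith
        obtain ⟨u, hu⟩ : ∃ u, m = v + u := ⟨m - v, by omega⟩
        subst hu
        rw [show v + u + 3 - v = u + 3 by omega] at e2
        rw [show v + u + 2 - v = u + 2 by omega] at e3
        rw [show v + u + 1 - v = u + 1 by omega] at e4
        have e5 : (v + u + 4).choose (v + 1) * ((v + 1) * (u + 3) * (u + 2) * (u + 1)) =
            (v + u).choose v * ((v + u + 4) * (v + u + 3) * (v + u + 2) * (v + u + 1)) := by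
          calc (v + u + 4).choose (v + 1) * ((v + 1) * (u + 3) * (u + 2) * (u + 1))
              = ((v + u + 4).choose (v + 1) * (v + 1)) * ((u + 3) * (u + 2) * (u + 1)) := by ring
            _ = (v + u + 4) * ((v + u + 3).choose v * (u + 3)) * ((u + 2) * (u + 1)) := by rw [e1]; ring
            _ = (v + u + 4) * (v + u + 3) * ((v + u + 2).choose v * (u + 2)) * (u + 1) := by rw [e2]; ring
            _ = (v + u + 4) * (v + u + 3) * (v + u + 2) * ((v + u + 1).choose v * (u + 1)) := by rw [e3]; ring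
            _ = _ := by rw [e4]; ring
        -- the ratio is at least (13/8)^4 = 28561/4096
        have e6 : 28561 * ((v + 1) * (u + 3) * (u + 2) * (u + 1)) ≤
            4096 * ((v + u + 4) * (v + u + 3) * (v + u + 2) * (v + u + 1)) := by
          exact ratio_aux (by omega)
        have hpos : 0 < (v + 1) * (u + 3) * (u + 2) * (u + 1) := by positivity
        have e7 : 28561 * (v + u).choose v ≤ 4096 * (v + u + 4).choose (v + 1) := by
          have : 28561 * (v + u).choose v * ((v + 1) * (u + 3) * (u + 2) * (u + 1)) ≤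
              4096 * (v + u + 4).choose (v + 1) * ((v + 1) * (u + 3) * (u + 2) * (u + 1)) := by
            calc 28561 * (v + u).choose v * ((v + 1) * (u + 3) * (u + 2) * (u + 1))
                = (v + u).choose v * (28561 * ((v + 1) * (u + 3) * (u + 2) * (u + 1))) := by ring
              _ ≤ (v + u).choose v * (4096 * ((v + u + 4) * (v + u + 3) * (v + u + 2) * (v + u + 1))) :=
                  Nat.mul_le_mul_left _ e6
              _ = 4096 * ((v + u).choose v * ((v + u + 4) * (v + u + 3) * (v + u + 2) * (v + u + 1))) := by ring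
              _ = 4096 * ((v + u + 4).choose (v + 1) * ((v + 1) * (u + 3) * (u + 2) * (u + 1))) := by rw [e5]
              _ = _ := by ring
          exact Nat.le_of_mul_le_mul_right this hpos
        calc 61 * 13 ^ (v + u + 4) = 28561 * (61 * 13 ^ (v + u)) := by ring
          _ < 28561 * (100 * ((v + u).choose v * 8 ^ (v + u))) := by
              exact Nat.mul_lt_mul_of_pos_left h (by norm_num)
          _ = 100 * ((28561 * (v + u).choose v) * 8 ^ (v + u)) := by ring
          _ ≤ 100 * ((4096 * (v + u + 4).choose (v + 1)) * 8 ^ (v + u)) := by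
              exact Nat.mul_le_mul_left _ (Nat.mul_le_mul_right _ e7)
          _ = _ := by ring
      · by_cases hd : n = 2 * w + 1
        · subst hd
          have h := ih (2 * w) (by omega) (by omega) w (by omega) le_rfl
          have e4 : (2 * w + 1).choose w * (w + 1) = (2 * w + 1) * (2 * w).choose w := by
            have := Nat.choose_mul_succ_eq (2 * w) w
            rw [show 2 * w + 1 - w = w + 1 by omega] at this
            linarith
          have e7 : 13 * (2 * w).choose w ≤ 8 * (2 * w + 1).choose w := by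
            have : 13 * (2 * w).choose w * (w + 1) ≤ 8 * (2 * w + 1).choose w * (w + 1) := by
              rw [mul_assoc 8, e4]
              have : 13 * (w + 1) ≤ 8 * (2 * w + 1) := by omega
              calc 13 * (2 * w).choose w * (w + 1) = (2 * w).choose w * (13 * (w + 1)) := by ring
                _ ≤ (2 * w).choose w * (8 * (2 * w + 1)) := Nat.mul_le_mul_left _ this
                _ = _ := by ring
            exact Nat.le_of_mul_le_mul_right this (by omega)
          calc 61 * 13 ^ (2 * w + 1) = 13 * (61 * 13 ^ (2 * w)) := by ring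
            _ < 13 * (100 * ((2 * w).choose w * 8 ^ (2 * w))) := Nat.mul_lt_mul_of_pos_left h (by norm_num)
            _ = 100 * ((13 * (2 * w).choose w) * 8 ^ (2 * w)) := by ring
            _ ≤ 100 * ((8 * (2 * w + 1).choose w) * 8 ^ (2 * w)) :=
                Nat.mul_le_mul_left _ (Nat.mul_le_mul_right _ e7)
            _ = _ := by ring
        · have he : n = 2 * w := by omega
          obtain ⟨v, rfl⟩ : ∃ v, w = v + 1 := ⟨w - 1, by omega⟩
          obtain rfl : n = 2 * v + 1 + 1 := by omega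
          have h := ih (2 * v + 1) (by omega) (by omega) v (by omega) (by omega)
          have e4 : (2 * v + 1 + 1).choose (v + 1) * (v + 1) = (2 * v + 1 + 1) * (2 * v + 1).choose v := by
            have := Nat.add_one_mul_choose_eq (2 * v + 1) v
            linarith
          have e7 : (2 * v + 1 + 1).choose (v + 1) = 2 * (2 * v + 1).choose v := by
            have : (2 * v + 1 + 1).choose (v + 1) * (v + 1) = (2 * (2 * v + 1).choose v) * (v + 1) := by
              rw [e4]; ring
            exact Nat.eq_of_mul_eq_mul_right (by omega) this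
          calc 61 * 13 ^ (2 * v + 1 + 1) = 13 * (61 * 13 ^ (2 * v + 1)) := by ring
            _ < 13 * (100 * ((2 * v + 1).choose v * 8 ^ (2 * v + 1))) := Nat.mul_lt_mul_of_pos_left h (by norm_num)
            _ ≤ 16 * (100 * ((2 * v + 1).choose v * 8 ^ (2 * v + 1))) := Nat.mul_le_mul_right _ (by norm_num)
            _ = _ := by rw [e7]; ring

/-- the inequality for the classes of `S_w × S_{n-w}` -/
theorem num_classes {n w : ℕ} (hn : 20 ≤ n) (h4 : n ≤ 4 * w) (h2 : 2 * w ≤ n) :
    ∃ c d : ℕ, Bd w c ∧ Bd (n - w) d ∧ 8 * (c * d) < n.choose w := by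
  by_cases h28 : n < 28
  · refine ⟨tb w, tb (n - w), bd_tb _, bd_tb _, ?_⟩
    have key : ∀ n' ∈ Finset.Ico 20 28, ∀ w' ∈ Finset.range 14, n' ≤ 4 * w' → 2 * w' ≤ n' →
        8 * (tb w' * tb (n' - w')) < n'.choose w' := by decide +kernel
    exact key n (Finset.mem_Ico.2 ⟨hn, h28⟩) w (Finset.mem_range.2 (by omega)) h4 h2
  · rw [not_lt] at h28
    obtain ⟨c, hc, hc'⟩ := bd_seven w (by omega)
    obtain ⟨d, hd, hd'⟩ := bd_fourteen (n - w) (by omega)
    refine ⟨c, d, hc, hd, ?_⟩
    have h := choose_low n h28 w h4 h2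
    have h1 : (c * 8 ^ w * 1000) * (d * 8 ^ (n - w) * 1000) ≤ (502 * 13 ^ w) * (151 * 13 ^ (n - w)) :=
      Nat.mul_le_mul hc' hd'
    have e1 : (c * 8 ^ w * 1000) * (d * 8 ^ (n - w) * 1000) = 1000000 * (c * d * 8 ^ n) := by
      have : (8 : ℕ) ^ n = 8 ^ w * 8 ^ (n - w) := by rw [← pow_add]; congr 1; omega
      rw [this]; ring
    have e2 : (502 * 13 ^ w) * (151 * 13 ^ (n - w)) = 75802 * 13 ^ n := by
      have : (13 : ℕ) ^ n = 13 ^ w * 13 ^ (n - w) := by rw [← pow_add]; congr 1; omega
      rw [this]; ring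
    rw [e1, e2] at h1
    have h3 : 8 * (c * d) * 8 ^ n < n.choose w * 8 ^ n := by
      have e3 : 8 * (c * d) * 8 ^ n = 8 * (c * d * 8 ^ n) := by ring
      rw [e3]
      omega
    exact Nat.lt_of_mul_lt_mul_right h3

/-! ### factorials -/

theorem num_prim (n : ℕ) (hn : 20 ≤ n) : ∀ s, s ≤ n → n < 2 * s → 2 ^ n * (4 ^ s * (n - s)!) < n ! := by
  induction n, hn using Nat.le_induction with
  | base =>
    intro s h1 h2
    have key : ∀ s ∈ Finset.range 21, 20 < 2 * s → 2 ^ 20 * (4 ^ s * (20 - s)!) < 20 ! := by decide +kernel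
    exact key s (Finset.mem_range.2 (by omega)) h2
  | succ n hn ih =>
    intro s h1 h2
    by_cases hs : n < 2 * (s - 1)
    · obtain ⟨t, rfl⟩ : ∃ t, s = t + 1 := ⟨s - 1, by omega⟩
      have h := ih t (by omega) (by omega)
      rw [show n + 1 - (t + 1) = n - t by omega]
      calc 2 ^ (n + 1) * (4 ^ (t + 1) * (n - t)!) = 8 * (2 ^ n * (4 ^ t * (n - t)!)) := by ring
        _ < 8 * n ! := Nat.mul_lt_mul_of_pos_left h (by norm_num)
        _ ≤ (n + 1) * n ! := Nat.mul_le_mul_right _ (by omega)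
        _ = (n + 1)! := (Nat.factorial_succ n).symm
    · have h := ih s (by omega) (by omega)
      have e : n + 1 - s = (n - s) + 1 := by omega
      rw [e, Nat.factorial_succ]
      have e2 : 2 * (n - s + 1) = n := by omega
      calc 2 ^ (n + 1) * (4 ^ s * ((n - s + 1) * (n - s)!)) = (2 * (n - s + 1)) * (2 ^ n * (4 ^ s * (n - s)!)) := by ring
        _ = n * (2 ^ n * (4 ^ s * (n - s)!)) := by rw [e2]
        _ < n * n ! := Nat.mul_lt_mul_of_pos_left h (by omega)
        _ ≤ (n + 1) * n ! := Nat.mul_le_mul_right _ (by omega)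
        _ = (n + 1)! := (Nat.factorial_succ n).symm

theorem imp_two (b : ℕ) (hb : 6 ≤ b) : 2 ^ (2 * b) * (2 ! ^ b * b !) < (2 * b)! := by
  induction b, hb using Nat.le_induction with
  | base => decide +kernel
  | succ b hb ih =>
    rw [show 2 * (b + 1) = 2 * b + 1 + 1 by ring, Nat.factorial_succ (2 * b + 1), Nat.factorial_succ (2 * b),
      Nat.factorial_succ b]
    have e : 8 * (b + 1) ≤ (2 * b + 1 + 1) * (2 * b + 1) := by nlinarith
    calc 2 ^ (2 * b + 1 + 1) * (2 ! ^ (b + 1) * ((b + 1) * b !)) = (8 * (b + 1)) * (2 ^ (2 * b) * (2 ! ^ b * b !)) := by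
          rw [show (2 : ℕ)! = 2 from rfl]; ring
      _ < (8 * (b + 1)) * (2 * b)! := Nat.mul_lt_mul_of_pos_left ih (by positivity)
      _ ≤ ((2 * b + 1 + 1) * (2 * b + 1)) * (2 * b)! := Nat.mul_le_mul_right _ e
      _ = _ := by ring

theorem imp_step {b : ℕ} (hb : 3 ≤ b) {a0 : ℕ} (ha0 : 1 ≤ a0) (h0 : 2 ^ (a0 * b) * (a0 ! ^ b * b !) < (a0 * b)!) (a : ℕ)
    (ha : a0 ≤ a) : 2 ^ (a * b) * (a ! ^ b * b !) < (a * b)! := by
  induction a, ha using Nat.le_induction with
  | base => exact h0
  | succ a ha ih =>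
    have h1 : (a * b)! * (a * b + 1) ^ b ≤ (a * b + b)! := Nat.factorial_mul_pow_le_factorial
    have h2 : 2 * (a + 1) ≤ a * b + 1 := by nlinarith
    have h3 : (2 * (a + 1)) ^ b ≤ (a * b + 1) ^ b := Nat.pow_le_pow_left h2 b
    have h4 : 0 < (2 * (a + 1)) ^ b := by positivity
    calc 2 ^ ((a + 1) * b) * ((a + 1)! ^ b * b !) = (2 * (a + 1)) ^ b * (2 ^ (a * b) * (a ! ^ b * b !)) := by
          rw [Nat.factorial_succ, Nat.mul_pow, Nat.mul_pow, Nat.add_mul, one_mul, pow_add]; ring
      _ < (2 * (a + 1)) ^ b * (a * b)! := Nat.mul_lt_mul_of_pos_left ih h4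
      _ ≤ (a * b + 1) ^ b * (a * b)! := Nat.mul_le_mul_right _ h3
      _ = (a * b)! * (a * b + 1) ^ b := Nat.mul_comm _ _
      _ ≤ (a * b + b)! := h1
      _ = ((a + 1) * b)! := by rw [Nat.add_mul, one_mul]

theorem imp_full {a b : ℕ} (ha : 2 ≤ a) (hb : 3 ≤ b) (hab : 20 ≤ a * b) : 2 ^ (a * b) * (a ! ^ b * b !) < (a * b)! := by
  rcases Nat.lt_or_ge b 6 with h | h
  · interval_cases b
    · exact imp_step (by norm_num) (a0 := 7) (by norm_num) (by decide +kernel) a (by omega)
    · exact imp_step (by norm_num) (a0 := 5) (by norm_num) (by decide +kernel) a (by omega)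
    · exact imp_step (by norm_num) (a0 := 4) (by norm_num) (by decide +kernel) a (by omega)
  · exact imp_step hb (a0 := 2) (by norm_num) (imp_two b h) a ha

theorem num_imprim (n : ℕ) (hn : 20 ≤ n) (a b : ℕ) (ha : 2 ≤ a) (hb : 3 ≤ b) (h1 : a * b ≤ n) (h2 : n < 2 * (a * b)) :
    2 ^ n * (a ! ^ b * b ! * (n - a * b)!) < n ! := by
  induction n, hn using Nat.le_induction with
  | base =>
    have key : ∀ a ∈ Finset.range 11, ∀ b ∈ Finset.range 11, 2 ≤ a → 3 ≤ b → a * b ≤ 20 → 20 < 2 * (a * b) →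
        2 ^ 20 * (a ! ^ b * b ! * (20 - a * b)!) < 20 ! := by decide +kernel
    refine key a (Finset.mem_range.2 ?_) b (Finset.mem_range.2 ?_) ha hb h1 h2
    · nlinarith
    · nlinarith
  | succ n hn ih =>
    rcases Nat.lt_or_ge n (a * b) with h | h
    · have h' : n + 1 = a * b := by omega
      have h3 := imp_full ha hb (by omega)
      rw [h', Nat.sub_self, Nat.factorial_zero, Nat.mul_one]
      exact h3
    · have hi := ih h (by omega)
      have e : n + 1 - a * b = (n - a * b) + 1 := by omega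
      rw [e, Nat.factorial_succ]
      have e2 : 2 * (n - a * b + 1) ≤ n + 1 := by omega
      calc 2 ^ (n + 1) * (a ! ^ b * b ! * ((n - a * b + 1) * (n - a * b)!)) =
            (2 * (n - a * b + 1)) * (2 ^ n * (a ! ^ b * b ! * (n - a * b)!)) := by ring
        _ < (2 * (n - a * b + 1)) * n ! := Nat.mul_lt_mul_of_pos_left hi (by omega)
        _ ≤ (n + 1) * n ! := Nat.mul_le_mul_right _ e2
        _ = (n + 1)! := (Nat.factorial_succ n).symm

end Cfsg.Agent.H10.AN
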